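import Cfsg.Agent.H282.SK.Tools

/-!
# S3010 (Sidki pairs): transport to a concrete group, dead classes (helper738)

* `equiv`: transport of `Cx V K` along `G ≃* G'` in another universe.
* `exists_of_inner`: `K ≃* X`, all automorphisms of `X` inner: `∃ V' : Subgroup X, Cx V' ⊤`.
* `exists_of_out2`: `K ≃* X`, `[Aut X : Inn X] ≤ 2`: `∃ V' : Subgroup X, Cx V' ⊤`, or `∃ V' : Subgroup (MulAut X),
  Cx V' Inn(X)`.
* `exists_of_ext2`: the same with `Aut X` replaced by any group `A` having `X` as a subgroup of index 2 with trivial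
  centralizer.
* `Dead K t`: no counterexample `V` contains `t`; conjugation invariant.
-/

set_option autoImplicit false
set_option linter.unusedVariables false
set_option linter.style.haveILetI false

universe u v w

open Subgroup Cfsg Cfsg.Agent.H282.SK

namespace Cfsg.Agent.H738.SK

/-! ### Change of universe -/

section gen
variable {A : Type u} {B : Type v} [Group A] [Group B]

theorem sidki_map {W : Subgroup A} (f : A ≃* B) (h : IsSidkiPair W) : IsSidkiPair (W.map f.toMonoidHom) := by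
  rintro x _ ⟨v, hv, rfl⟩ hx hi
  have hx' : Odd (orderOf (f.symm x)) := by rwa [MulEquiv.orderOf_eq]
  have hi' : v * f.symm x * v⁻¹ = (f.symm x)⁻¹ := by
    apply f.injective
    simpa using hi
  obtain ⟨w, hw, hw1, hc⟩ := h _ v hv hx' hi'
  refine ⟨f w, ⟨w, hw, rfl⟩, fun h1 => hw1 (f.injective (by simpa using h1)), ?_⟩
  have := congrArg f hc
  simpa using this

theorem pCore_le_map [Finite A] [Finite B] (f : A ≃* B) : pCore 2 B ≤ (pCore 2 A).map f.toMonoidHom := by
  intro x hx
  refine ⟨f.symm x, ?_, by simp⟩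
  have h1 : (pCore 2 B).comap f.toMonoidHom ≤ pCore 2 A := by
    refine le_sSup ⟨(Lib.Cores.pCore_normal 2).comap _, ?_⟩
    exact (Lib.Cores.pCore_isPGroup 2).comap_of_injective _ f.injective
  exact h1 (by simpa using hx)

theorem inf_pCore_map [Finite A] [Finite B] {W : Subgroup A} (f : A ≃* B) (h : W ⊓ pCore 2 A = ⊥) :
    W.map f.toMonoidHom ⊓ pCore 2 B = ⊥ := by
  rw [eq_bot_iff]
  rintro _ ⟨⟨w, hw, rfl⟩, h2⟩
  obtain ⟨w', hw', he⟩ := pCore_le_map f h2
  have h3 : w' = w := f.injective he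
  subst h3
  have h4 : w' ∈ W ⊓ pCore 2 A := ⟨hw, hw'⟩
  rw [h, mem_bot] at h4
  rw [h4, map_one]
  exact one_mem _

theorem natCard_map (f : A ≃* B) (W : Subgroup A) : Nat.card (W.map f.toMonoidHom) = Nat.card W :=
  Nat.card_congr (W.equivMapOfInjective _ f.injective).toEquiv.symm

end gen

theorem exists_group {F : Type u} {H : Type v} [Group H] (e0 : F ≃ H) :
    ∃ (_ : Group F), Nonempty (F ≃* H) := by
  letI : Group F := e0.group
  exact ⟨inferInstance, ⟨{ toEquiv := e0, map_mul' := fun a b => e0.apply_symm_apply _ }⟩⟩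

theorem exists_copy (H : Type v) [Group H] [Finite H] :
    ∃ (F : Type u) (_ : Group F) (_ : Finite F), Nonempty (F ≃* H) := by
  obtain ⟨g, e⟩ := exists_group (Equiv.ulift.{u}.trans (Finite.equivFin H).symm)
  exact ⟨ULift.{u} (Fin (Nat.card H)), g, inferInstance, e⟩

/-- The statement for small groups does not depend on the universe. -/
theorem min_univ {n : ℕ} (h : H273.Sidki.Min.{u} n) : H273.Sidki.Min.{v} n := by
  intro H _ _ W hc hW hW1 hS hbot
  obtain ⟨F, _, _, ⟨e⟩⟩ := exists_copy.{u} H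
  refine h F (W.map e.symm.toMonoidHom) ?_ (H273.Sidki.elemAb_map hW _) ?_ (sidki_map e.symm hS)
    (inf_pCore_map e.symm hbot)
  · rwa [Nat.card_congr e.toEquiv]
  · rwa [Ne, Subgroup.map_eq_bot_iff_of_injective _ e.symm.injective]

section
variable {G : Type u} [Group G] [Finite G] {V K : Subgroup G}

/-- Transport along an isomorphism, in any universe. -/
theorem equiv (h : Cx V K) {G' : Type v} [Group G'] [Finite G'] (f : G ≃* G') :
    Cx (V.map f.toMonoidHom) (K.map f.toMonoidHom) := by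
  have hinj : Function.Injective f.toMonoidHom := f.injective
  have hsurj : Function.Surjective f.toMonoidHom := f.surjective
  refine ⟨H273.Sidki.elemAb_map h.elem _, sidki_map f h.sidki, by rw [natCard_map]; exact h.card,
    h.norm.map _ hsurj, ?_, ?_, ?_, ?_, inf_pCore_map f h.bot, ?_, ?_⟩
  · haveI := h.simple
    exact (K.equivMapOfInjective _ hinj).symm.isSimpleGroup
  · rintro ⟨⟨hc⟩⟩
    apply h.nonab
    refine ⟨⟨fun a b => ?_⟩⟩
    apply (K.equivMapOfInjective _ hinj).injective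
    rw [map_mul, map_mul]
    exact hc _ _
  · rw [eq_bot_iff]
    intro z hz
    have h1 : f.symm z = 1 := by
      apply h.eq_one_of_comm
      intro k hk
      apply f.injective
      have := mem_centralizer_iff.1 hz (f k) ⟨k, hk, rfl⟩
      simpa using this.symm
    rw [mem_bot]
    simpa using congrArg f h1
  · rw [← Subgroup.map_sup, h.sup, Subgroup.map_top_of_surjective _ hsurj]
  · have : Nat.card G' = Nat.card G := Nat.card_congr f.symm.toEquiv
    rw [this]
    exact min_univ h.min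
  · intro W hW hWe hW1 hWS
    refine h.minV (W.map f.symm.toMonoidHom) (by rw [natCard_map, ← natCard_map f V]; exact hW)
      (H273.Sidki.elemAb_map hWe _) ?_ (sidki_map f.symm hWS)
    rwa [Ne, Subgroup.map_eq_bot_iff_of_injective _ f.symm.injective]

/-- The conjugates of `V` are counterexamples too. -/
theorem conj (h : Cx V K) (g : G) : Cx (V.map (MulAut.conj g).toMonoidHom) K := by
  have h1 := equiv h (MulAut.conj g)
  haveI := h.norm
  have h2 : K.map (MulAut.conj g).toMonoidHom = K := by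
    ext y
    constructor
    · rintro ⟨k, hk, rfl⟩
      exact h.norm.conj_mem k hk g
    · intro hy
      refine ⟨g⁻¹ * y * g, by simpa using h.norm.conj_mem y hy g⁻¹, ?_⟩
      show g * (g⁻¹ * y * g) * g⁻¹ = y
      group
  rwa [h2] at h1

theorem index_K (h : Cx V K) : Nat.card V = Nat.card (V ⊓ K : Subgroup G) * K.index := by
  haveI := h.norm
  have h1 : (K.relIndex V) = K.index := by
    have h2 : K.relIndex (K ⊔ V) = K.relIndex V := Subgroup.relIndex_sup_left V K
    rw [← h2, h.sup, Subgroup.relIndex_top_right]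
  have h3 : (V ⊓ K : Subgroup G).relIndex V = K.relIndex V := by
    rw [inf_comm, Subgroup.inf_relIndex_right]
  have h4 := Subgroup.relIndex_mul_relIndex (⊥ : Subgroup G) (V ⊓ K) V bot_le inf_le_left
  rw [Subgroup.relIndex_bot_left, Subgroup.relIndex_bot_left, h3, h1] at h4
  exact h4.symm

theorem four_le (h : Cx V K) (hi : K.index ≤ 2) : 4 ≤ Nat.card (V ⊓ K : Subgroup G) := by
  have h1 := index_K h
  have h2 := h.card
  by_contra hc
  push Not at hc
  have : Nat.card (V ⊓ K : Subgroup G) * K.index ≤ 3 * 2 := Nat.mul_le_mul (by omega) hi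
  omega

/-- if `[G : K] ≤ 2`, some involution of `V` lies in `K` -/
theorem exists_mem_K (h : Cx V K) (hi : K.index ≤ 2) : ∃ v ∈ V, v ∈ K ∧ v ≠ 1 := by
  by_contra hc
  push Not at hc
  have h1 : (V ⊓ K : Subgroup G) = ⊥ := by
    rw [Subgroup.eq_bot_iff_forall]
    intro x hx
    exact hc x (mem_inf.1 hx).1 (mem_inf.1 hx).2
  have h2 := four_le h hi
  rw [h1, Subgroup.card_bot] at h2
  omega

/-- if `K ≠ G`, some element of `V` lies outside `K` -/
theorem exists_not_mem_K (h : Cx V K) (hK : K ≠ ⊤) : ∃ v ∈ V, v ∉ K := by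
  by_contra hc
  push Not at hc
  apply hK
  rw [← h.sup, left_eq_sup]
  exact hc

/-! ### `K = G` -/

/-- If all automorphisms of `K` are inner then `G = K`. -/
theorem top_of_inner (h : Cx V K) {X : Type v} [Group X] (e : K ≃* X)
    (hin : ∀ α : MulAut X, ∃ x : X, α = MulAut.conj x) : K = ⊤ := by
  obtain ⟨φ, hφ, hφK, -⟩ := h.exists_toAut e
  rw [eq_top_iff]
  intro g _
  obtain ⟨x, hx⟩ := hin (φ g)
  have h1 : φ g = φ (e.symm x : K) := by
    rw [hφK, hx, MulEquiv.apply_symm_apply]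
  rw [hφ h1]
  exact (e.symm x).2

theorem exists_of_top (h : Cx V K) (hK : K = ⊤) {X : Type v} [Group X] [Finite X] (e : K ≃* X) :
    ∃ V' : Subgroup X, Cx V' (⊤ : Subgroup X) := by
  subst hK
  have h1 := equiv h ((Subgroup.topEquiv (G := G)).symm.trans e)
  rw [Subgroup.map_top_of_surjective _ ((Subgroup.topEquiv (G := G)).symm.trans e).surjective] at h1
  exact ⟨_, h1⟩

/-- **Out(X) = 1.** -/
theorem exists_of_inner (h : Cx V K) {X : Type v} [Group X] [Finite X] (e : K ≃* X)
    (hin : ∀ α : MulAut X, ∃ x : X, α = MulAut.conj x) : ∃ V' : Subgroup X, Cx V' (⊤ : Subgroup X) :=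
  exists_of_top h (top_of_inner h e hin) e

/-! ### `|Out| = 2` -/

/-- **|Out(X)| ≤ 2**, abstract group `A` with a normal subgroup `X` of index at most 2 and trivial centralizer. -/
theorem exists_of_ext2 (h : Cx V K) {A : Type v} [Group A] [Finite A] (X : Subgroup A) [X.Normal] (e : K ≃* X)
    (hX : X.index = 2) (hc : centralizer (X : Set A) = ⊥)
    (hout : (MulAut.conj (G := X)).range.index ≤ 2) :
    (K = ⊤ ∧ ∃ V' : Subgroup X, Cx V' (⊤ : Subgroup X)) ∨ (K.index = 2 ∧ ∃ V' : Subgroup A, Cx V' X) := by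
  classical
  obtain ⟨φ, hφ, hφK, -⟩ := h.exists_toAut e
  set I : Subgroup (MulAut X) := (MulAut.conj (G := X)).range with hI
  -- the isomorphism `A ≃* Aut X`
  let ψ : A →* MulAut X := MulAut.conjNormal (H := X)
  have hψ : Function.Injective ψ := by
    rw [← MonoidHom.ker_eq_bot_iff, eq_bot_iff, ← hc]
    intro a ha
    rw [mem_centralizer_iff]
    intro x hx
    have h1 : ψ a = 1 := ha
    have h2 := congrArg (fun α : MulAut X => ((α ⟨x, hx⟩ : X) : A)) h1
    have h3 : a * x * a⁻¹ = x := by simpa [ψ, MulAut.conjNormal_apply] using h2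
    have h4 : a * x = x * a := by
      calc a * x = (a * x * a⁻¹) * a := by group
        _ = _ := by rw [h3]
    exact h4.symm
  have hψX : ∀ x : X, ψ x = MulAut.conj x := by
    intro x
    apply MulEquiv.ext
    intro y
    apply Subtype.ext
    simp [ψ, MulAut.conjNormal_apply, MulAut.conj_apply]
  have hIX : X.map ψ = I := by
    apply le_antisymm
    · rintro _ ⟨x, hx, rfl⟩
      exact ⟨⟨x, hx⟩, (hψX ⟨x, hx⟩).symm⟩
    · rintro _ ⟨x, rfl⟩
      exact ⟨x, x.2, hψX x⟩
  have hcardI : Nat.card I = Nat.card X := by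
    rw [← hIX]
    exact Nat.card_congr (X.equivMapOfInjective _ hψ).toEquiv.symm
  have hcA : Nat.card A = Nat.card X * 2 := by rw [← hX, Subgroup.card_mul_index]
  have hAut : Nat.card (MulAut X) ≤ Nat.card A := by
    have h1 : Nat.card I * I.index = Nat.card (MulAut X) := Subgroup.card_mul_index I
    rw [hcA, ← h1, hcardI]
    exact Nat.mul_le_mul_left _ hout
  have hψs : Function.Surjective ψ := by
    have h1 : Nat.card A = Nat.card (MulAut X) := le_antisymm (Nat.card_le_card_of_injective _ hψ) hAut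
    exact ((Nat.bijective_iff_injective_and_card ψ).2 ⟨hψ, h1⟩).2
  let Ψ : A ≃* MulAut X := MulEquiv.ofBijective ψ ⟨hψ, hψs⟩
  have hKI : ∀ g : G, φ g ∈ I ↔ g ∈ K := by
    intro g
    constructor
    · rintro ⟨x, hx⟩
      have h1 : φ g = φ (e.symm x : K) := by rw [hφK, ← hx, MulEquiv.apply_symm_apply]
      rw [hφ h1]
      exact (e.symm x).2
    · intro hg
      exact ⟨e ⟨g, hg⟩, (hφK ⟨g, hg⟩).symm⟩
  have hcardK : Nat.card K = Nat.card X := Nat.card_congr e.toEquiv
  by_cases hK : K = ⊤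
  · exact Or.inl ⟨hK, exists_of_top h hK e⟩
  right
  -- `G ≃* A`
  let θ : G →* A := Ψ.symm.toMonoidHom.comp φ
  have hθ : Function.Injective θ := Ψ.symm.injective.comp hφ
  have hG : Nat.card G = Nat.card K * K.index := (Subgroup.card_mul_index K).symm
  have hi2 : 2 ≤ K.index := by
    have h1 : K.index ≠ 1 := fun h1 => hK (Subgroup.index_eq_one.1 h1)
    have h2 : K.index ≠ 0 := Subgroup.index_ne_zero_of_finite
    omega
  have hle : Nat.card G ≤ Nat.card A := Nat.card_le_card_of_injective _ hθ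
  have hpos : 0 < Nat.card X := Nat.card_pos
  have hi2' : K.index = 2 := by
    rw [hG, hcardK, hcA] at hle
    have := Nat.le_of_mul_le_mul_left hle hpos
    omega
  have hcard : Nat.card G = Nat.card A := by rw [hG, hi2', hcardK, hcA]
  have hθb : Function.Bijective θ := (Nat.bijective_iff_injective_and_card θ).2 ⟨hθ, hcard⟩
  let Θ : G ≃* A := MulEquiv.ofBijective θ hθb
  have h1 := equiv h Θ
  have h2 : K.map Θ.toMonoidHom = X := by
    have h3 : K.map Θ.toMonoidHom ≤ X := by
      rintro _ ⟨k, hk, rfl⟩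
      have h4 : φ k ∈ X.map ψ := hIX ▸ (hKI k).2 hk
      obtain ⟨x, hx, hxe⟩ := h4
      have h5 : Θ.toMonoidHom k = x := by
        have h6 : Ψ x = φ k := hxe
        show Ψ.symm (φ k) = x
        rw [← h6, MulEquiv.symm_apply_apply]
      rwa [h5]
    apply Subgroup.eq_of_le_of_card_ge h3
    rw [natCard_map, hcardK]
  rw [h2] at h1
  exact ⟨hi2', _, h1⟩

/-- **|Out(X)| ≤ 2**: `V ≤ Aut(X)`. -/
theorem exists_of_out2 (h : Cx V K) {X : Type v} [Group X] [Finite X] (e : K ≃* X)
    (hout : (MulAut.conj (G := X)).range.index ≤ 2) :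
    (K = ⊤ ∧ ∃ V' : Subgroup X, Cx V' (⊤ : Subgroup X)) ∨
      (K.index = 2 ∧ ∃ V' : Subgroup (MulAut X), Cx V' (MulAut.conj (G := X)).range) := by
  classical
  by_cases hK : K = ⊤
  · exact Or.inl ⟨hK, exists_of_top h hK e⟩
  right
  obtain ⟨φ, hφ, hφK, -⟩ := h.exists_toAut e
  set I : Subgroup (MulAut X) := (MulAut.conj (G := X)).range with hI
  have hKI : K.map φ = I := by
    apply le_antisymm
    · rintro _ ⟨x, hx, rfl⟩
      exact ⟨e ⟨x, hx⟩, (hφK ⟨x, hx⟩).symm⟩
    · rintro _ ⟨x, rfl⟩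
      refine ⟨(e.symm x : K), (e.symm x).2, ?_⟩
      rw [hφK, MulEquiv.apply_symm_apply]
  have hcardI : Nat.card I = Nat.card K := by
    rw [← hKI]
    exact Nat.card_congr (K.equivMapOfInjective _ hφ).toEquiv.symm
  have hi2 : 2 ≤ K.index := by
    have h1 : K.index ≠ 1 := fun h1 => hK (Subgroup.index_eq_one.1 h1)
    have h2 : K.index ≠ 0 := Subgroup.index_ne_zero_of_finite
    omega
  have hG : Nat.card G = Nat.card K * K.index := (Subgroup.card_mul_index K).symm
  have hA : Nat.card (MulAut X) = Nat.card I * I.index := (Subgroup.card_mul_index I).symm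
  have hle : Nat.card G ≤ Nat.card (MulAut X) := Nat.card_le_card_of_injective _ hφ
  have hpos : 0 < Nat.card K := Nat.card_pos
  have h3 : K.index ≤ I.index := by
    rw [hG, hA, hcardI] at hle
    exact Nat.le_of_mul_le_mul_left hle hpos
  have hi2' : K.index = 2 := by omega
  have hcard : Nat.card G = Nat.card (MulAut X) := by
    rw [hG, hA, hcardI]
    congr 1
    omega
  let Θ : G ≃* MulAut X := MulEquiv.ofBijective φ ((Nat.bijective_iff_injective_and_card φ).2 ⟨hφ, hcard⟩)
  have h1 := equiv h Θ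
  have h2 : K.map Θ.toMonoidHom = I := hKI
  rw [h2] at h1
  exact ⟨hi2', _, h1⟩

/-! ### Direct kills -/

/-- `C_G(x)` of odd order -/
theorem false_of_odd (h : Cx V K) {v x : G} (hv : v ∈ V) (hx : Odd (orderOf x))
    (hinv : v * x * v⁻¹ = x⁻¹) (hc : Odd (Nat.card (centralizer ({x} : Set G)))) : False := by
  obtain ⟨w, hw, hw1, hwx⟩ := h.t0 hv hx hinv
  have h1 : orderOf w ∣ Nat.card (centralizer ({x} : Set G)) :=
    Subgroup.orderOf_dvd_natCard _ (mem_centralizer_singleton_iff.2 hwx.eq)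
  have h2 : orderOf w ∣ 2 := orderOf_dvd_of_pow_eq_one (by rw [pow_two]; exact h.sq hw)
  have h3 : orderOf w = 2 := by
    rcases (Nat.dvd_prime Nat.prime_two).1 h2 with h3 | h3
    · exact absurd (orderOf_eq_one_iff.1 h3) hw1
    · exact h3
  rw [h3] at h1
  exact (Nat.not_even_iff_odd.2 hc) (even_iff_two_dvd.2 h1)

/-- `O_2(C_G(⟨v, x⟩)) = 1` -/
theorem false_of_O2 (h : Cx V K) {v x : G} (hv : v ∈ V) (hv1 : v ≠ 1) (hx : Odd (orderOf x))
    (hinv : v * x * v⁻¹ = x⁻¹)
    (hc : O2 (centralizer ({v} : Set G) ⊓ centralizer ({x} : Set G)) = ⊥) : False := by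
  obtain ⟨w, hw, hw1, hwx, hwO⟩ := h.t1 hv hv1 hx hinv
  rw [hc, mem_bot] at hwO
  exact hw1 hwO

/-- the only involution `y` of `O_2(C_G(⟨v, x⟩))` lies in `V` -/
theorem unique_mem (h : Cx V K) {v x y : G} (hv : v ∈ V) (hv1 : v ≠ 1) (hx : Odd (orderOf x))
    (hinv : v * x * v⁻¹ = x⁻¹)
    (hu : ∀ w, w * w = 1 → w ≠ 1 → Commute w v → Commute w x →
      w ∈ O2 (centralizer ({v} : Set G) ⊓ centralizer ({x} : Set G)) → w = y) : y ∈ V := by
  obtain ⟨w, hw, hw1, hwx, hwO⟩ := h.t1 hv hv1 hx hinv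
  rw [← hu w (h.sq hw) hw1 (h.comm hw hv) hwx hwO]
  exact hw

/-- **(N)** if all conjugates of `y` under `C_G(v)` lie in `V` then `y ∈ O_2(C_G(v))`. -/
theorem mem_O2_of_conj (h : Cx V K) {v y : G} (hv : v ∈ V)
    (hy : ∀ g : G, Commute g v → g * y * g⁻¹ ∈ V) : y ∈ O2 (centralizer ({v} : Set G)) := by
  have hyV : y ∈ V := by simpa using hy 1 (Commute.one_left v)
  apply mem_O2_of (mem_centralizer_singleton_iff.2 (h.comm hyV hv).eq) (h.sq hyV)
  intro z hz hzo hzi
  have h2 : z⁻¹ * y * z ∈ V := by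
    have := hy z⁻¹ (Commute.inv_left (mem_centralizer_singleton_iff.1 hz))
    simpa using this
  have h3 : (z ^ 2)⁻¹ ∈ V := by
    have e1 : (z ^ 2)⁻¹ = (z⁻¹ * y * z) * y⁻¹ := by
      calc (z ^ 2)⁻¹ = z⁻¹ * z⁻¹ := by rw [pow_two]; group
        _ = z⁻¹ * (y * z * y⁻¹) := by rw [hzi]
        _ = _ := by group
    rw [e1]
    exact V.mul_mem h2 (V.inv_mem hyV)
  have h4 : z ∈ V := S3011.mem_of_sq hzo (by simpa using V.inv_mem h3)
  apply S3011.eq_one_of_odd_of_inv hzo
  exact (h.inv_eq h4).symm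

/-! ### Dead elements -/

/-- `t` is dead: no counterexample `V` of `G` contains `t`. -/
def Dead (K : Subgroup G) (t : G) : Prop := ∀ V : Subgroup G, Cx V K → t ∉ V

theorem Dead.conj {t : G} (hd : Dead K t) (g : G) : Dead K (g * t * g⁻¹) := by
  intro V h ht
  refine hd _ (SK.conj h g⁻¹) ⟨g * t * g⁻¹, ht, ?_⟩
  show g⁻¹ * (g * t * g⁻¹) * g⁻¹⁻¹ = t
  group

theorem Dead.of_isConj {t t' : G} (hd : Dead K t) (hc : IsConj t t') : Dead K t' := by
  obtain ⟨g, rfl⟩ := isConj_iff.1 hc
  exact hd.conj g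

/-- `v` inverts `x` odd and every involution of `O_2(C_G(⟨v, x⟩))` is dead: `v` is dead. -/
theorem Dead.of {v x : G} (hv1 : v ≠ 1) (hx : Odd (orderOf x)) (hinv : v * x * v⁻¹ = x⁻¹)
    (hall : ∀ w : G, w * w = 1 → w ≠ 1 → Commute w v → Commute w x →
      w ∈ O2 (centralizer ({v} : Set G) ⊓ centralizer ({x} : Set G)) → Dead K w) : Dead K v := by
  intro V h hv
  obtain ⟨w, hw, hw1, hwx, hwO⟩ := h.t1 hv hv1 hx hinv
  exact hall w (h.sq hw) hw1 (h.comm hw hv) hwx hwO V h hw

/-- a dead product: `v` inverts `x` and every involution `w` of `O_2(C_G(⟨v, x⟩))` is dead, or `v w` is. -/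
theorem Dead.of' {v x : G} (hv1 : v ≠ 1) (hx : Odd (orderOf x)) (hinv : v * x * v⁻¹ = x⁻¹)
    (hall : ∀ w : G, w * w = 1 → w ≠ 1 → Commute w v → Commute w x →
      w ∈ O2 (centralizer ({v} : Set G) ⊓ centralizer ({x} : Set G)) → Dead K w ∨ Dead K (v * w)) : Dead K v := by
  intro V h hv
  obtain ⟨w, hw, hw1, hwx, hwO⟩ := h.t1 hv hv1 hx hinv
  rcases hall w (h.sq hw) hw1 (h.comm hw hv) hwx hwO with h1 | h1
  · exact h1 V h hw
  · exact h1 V h (V.mul_mem hv hw)

theorem Dead.of_odd {v x : G} (hx : Odd (orderOf x)) (hinv : v * x * v⁻¹ = x⁻¹)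
    (hc : Odd (Nat.card (centralizer ({x} : Set G)))) : Dead K v :=
  fun V h hv => false_of_odd h hv hx hinv hc

theorem Dead.of_O2 {v x : G} (hv1 : v ≠ 1) (hx : Odd (orderOf x)) (hinv : v * x * v⁻¹ = x⁻¹)
    (hc : O2 (centralizer ({v} : Set G) ⊓ centralizer ({x} : Set G)) = ⊥) : Dead K v :=
  fun V h hv => false_of_O2 h hv hv1 hx hinv hc

/-- all involutions of `G` are dead -/
theorem false_of_dead (h : Cx V K) (hall : ∀ t : G, t * t = 1 → t ≠ 1 → Dead K t) : False := by
  obtain ⟨a, ha⟩ := Subgroup.ne_bot_iff_exists_ne_one.1 h.V_ne_bot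
  exact hall a (h.sq a.2) (fun h1 => ha (Subtype.ext h1)) V h a.2

/-- all involutions of `K` are dead, `[G : K] ≤ 2` -/
theorem false_of_dead_inner (h : Cx V K) (hi : K.index ≤ 2)
    (hall : ∀ t ∈ K, t * t = 1 → t ≠ 1 → Dead K t) : False := by
  obtain ⟨v, hv, hvK, hv1⟩ := exists_mem_K h hi
  exact hall v hvK (h.sq hv) hv1 V h hv

/-- all involutions outside `K` are dead, `K ≠ G` -/
theorem false_of_dead_outer (h : Cx V K) (hK : K ≠ ⊤)
    (hall : ∀ t, t ∉ K → t * t = 1 → Dead K t) : False := by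
  obtain ⟨v, hv, hvK⟩ := exists_not_mem_K h hK
  exact hall v hvK (h.sq hv) V h hv

end

/-! ### Row killers -/

/-- **Row with Out(X) = 1**: it is enough to kill the counterexamples in the concrete group `X`. -/
theorem deadS_of_inner {X : Type v} [Group X] [Finite X] {P : (K : Type u) → [Group K] → Prop}
    (hP : ∀ (K : Type u) [Group K], P K → Nonempty (K ≃* X))
    (hin : ∀ α : MulAut X, ∃ x : X, α = MulAut.conj x)
    (hk : ∀ V : Subgroup X, Cx V (⊤ : Subgroup X) → False) : DeadS.{u} P := by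
  intro G _ _ V K h hPK
  obtain ⟨e⟩ := hP _ hPK
  obtain ⟨V', h'⟩ := exists_of_inner h e hin
  exact hk V' h'

/-- **Row with |Out(X)| ≤ 2**. -/
theorem deadS_of_out2 {X : Type v} [Group X] [Finite X] {P : (K : Type u) → [Group K] → Prop}
    (hP : ∀ (K : Type u) [Group K], P K → Nonempty (K ≃* X))
    (hout : (MulAut.conj (G := X)).range.index ≤ 2)
    (hk : ∀ V : Subgroup X, Cx V (⊤ : Subgroup X) → False)
    (hk2 : ∀ V : Subgroup (MulAut X), (MulAut.conj (G := X)).range.index = 2 →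
      Cx V (MulAut.conj (G := X)).range → False) : DeadS.{u} P := by
  intro G _ _ V K h hPK
  obtain ⟨e⟩ := hP _ hPK
  rcases exists_of_out2 h e hout with ⟨-, V', h'⟩ | ⟨-, V', h'⟩
  · exact hk V' h'
  · refine hk2 V' ?_ h'
    have h1 : (MulAut.conj (G := X)).range.index ≠ 0 := Subgroup.index_ne_zero_of_finite
    by_contra h2
    have h3 : (MulAut.conj (G := X)).range.index = 1 := by omega
    have h4 : (MulAut.conj (G := X)).range = ⊤ := Subgroup.index_eq_one.1 h3
    -- then `Aut X ≃* X`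
    have hz : Function.Injective (MulAut.conj (G := X)) := by
      rw [← MonoidHom.ker_eq_bot_iff, eq_bot_iff]
      intro x hx
      have hx' : MulAut.conj x = 1 := hx
      haveI : K.Normal := h.norm
      have h5 : (e.symm x : G) = 1 := by
        apply h.eq_one_of_comm
        intro k hk
        have h6 := congrArg (fun α : MulAut X => α (e ⟨k, hk⟩)) hx'
        have h7 : x * e ⟨k, hk⟩ = e ⟨k, hk⟩ * x := by
          have h8 : x * e ⟨k, hk⟩ * x⁻¹ = e ⟨k, hk⟩ := by simpa [MulAut.conj_apply] using h6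
          calc x * e ⟨k, hk⟩ = (x * e ⟨k, hk⟩ * x⁻¹) * x := by group
            _ = _ := by rw [h8]
        have h9 := congrArg e.symm h7
        rw [map_mul, map_mul, MulEquiv.symm_apply_apply] at h9
        exact congrArg Subtype.val h9
      have h6 : e.symm x = 1 := Subtype.ext h5
      have h7 : x = 1 := by simpa using congrArg e h6
      rw [h7]
      exact one_mem _
    have hs : Function.Surjective (MulAut.conj (G := X)) := MonoidHom.range_eq_top.1 h4
    let Φ : X ≃* MulAut X := MulEquiv.ofBijective _ ⟨hz, hs⟩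
    have h5 := equiv h' Φ.symm
    rw [h4, Subgroup.map_top_of_surjective _ Φ.symm.surjective] at h5
    exact hk _ h5

end Cfsg.Agent.H738.SK
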